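import Cfsg.Agent.Lib.Helper48.Iso.A
import Cfsg.Agent.Lib.Helper48.FF6
import Cfsg.Agent.Lib.Helper47.Misc
import Cfsg.Agent.Lib.Helper47.Basic2
import Cfsg.Agent.Lib.Helper47.PCore

/-! Piece B: basic facts on an isolated `p`-minimal subgroup, in the original group. -/

set_option autoImplicit false

namespace Cfsg.Agent.Lib.Helper48.Iso

open Cfsg Cfsg.Agent.Lib.Helper48 Subgroup

variable {G : Type*} [Group G]

theorem mem_of_coprime_of_mem_sup {p : ℕ} {W R : Subgroup G} (hR : IsPGroup p R)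
    (hRW : R ≤ normalizer (W : Set G)) {g : G} (hg : g ∈ W ⊔ R) (hc : (orderOf g).Coprime p) :
    g ∈ W := by
  obtain ⟨w, hw, r, hr, rfl⟩ := Lib.Helper47.mem_sup_of_le_normalizer hRW hg
  have key : ∀ n : ℕ, ∃ w' ∈ W, (w * r) ^ n = w' * r ^ n := by
    intro n
    induction n with
    | zero => exact ⟨1, one_mem _, by simp⟩
    | succ n ih =>
      obtain ⟨w', hw', h⟩ := ih
      refine ⟨w' * (r ^ n * w * (r ^ n)⁻¹), mul_mem hw'
        (Lib.Helper47.conj_mem_of_mem_normalizer (hRW (pow_mem hr n)) hw), ?_⟩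
      rw [pow_succ, h, pow_succ]
      group
  obtain ⟨k, hk⟩ := hR ⟨r, hr⟩
  have hk' : r ^ p ^ k = 1 := by
    have := congrArg Subtype.val hk
    simpa using this
  obtain ⟨w', hw', h⟩ := key (p ^ k)
  rw [hk', mul_one] at h
  obtain ⟨m, hm⟩ := exists_pow_eq_self_of_coprime (x := w * r) (n := p ^ k)
    ((Nat.Coprime.pow_right k hc).symm)
  rw [← hm, h]
  exact pow_mem hw' m

/-- the data of S3044 / S3045 -/
structure Setup (p : ℕ) (S : Sylow p G) (P L Y : Subgroup G) : Prop where
  hSP : (S : Subgroup G) ≤ P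
  hPmin : Cfsg.IsPMinimal p ↥P
  hL : L = Subgroup.normalizer ((S : Subgroup G) : Set G) ⊔
      ⨆ P' : {P' : Subgroup G // (S : Subgroup G) ≤ P' ∧ Cfsg.IsPMinimal p ↥P' ∧ P' ≠ P}, (P' : Subgroup G)
  hiso : ¬ (Cfsg.pCore p ↥L).map L.subtype ≤ (Cfsg.pCore p ↥P).map P.subtype
  hY : Y = Subgroup.normalClosure (((Cfsg.pResidual p ↥P).map P.subtype : Subgroup G) : Set G)

namespace Setup

variable [Finite G] {p : ℕ} [Fact p.Prime] {S : Sylow p G} {P L Y : Subgroup G}

theorem S_le_L (h : Setup p S P L Y) : (S : Subgroup G) ≤ L := by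
  rw [h.hL]; exact le_sup_of_le_left le_normalizer

theorem R_le_L (_h : Setup p S P L Y) : (Cfsg.pCore p ↥L).map L.subtype ≤ L := map_subtype_le _

theorem R_le_S (h : Setup p S P L Y) : (Cfsg.pCore p ↥L).map L.subtype ≤ (S : Subgroup G) := by
  have h1 := pCore_le_sylow (S.subtype h.S_le_L)
  rw [Sylow.coe_subtype] at h1
  refine (map_mono h1).trans ?_
  rw [subgroupOf_map_subtype]
  exact inf_le_left

theorem L_le_nR (_h : Setup p S P L Y) :
    L ≤ normalizer (((Cfsg.pCore p ↥L).map L.subtype : Subgroup G) : Set G) := by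
  rw [← normal_subgroupOf_iff_le_normalizer (map_subtype_le _)]
  have : ((Cfsg.pCore p ↥L).map L.subtype).subgroupOf L = Cfsg.pCore p ↥L := by
    rw [subgroupOf, comap_map_eq_self_of_injective L.subtype_injective]
  rw [this]
  exact Lib.Helper47.pCore_normal

theorem isPGroup_R (h : Setup p S P L Y) : IsPGroup p ((Cfsg.pCore p ↥L).map L.subtype : Subgroup G) :=
  S.2.to_le h.R_le_S

theorem T_le_P (_h : Setup p S P L Y) : (Cfsg.pResidual p ↥P).map P.subtype ≤ P := map_subtype_le _

theorem P_le_nT (_h : Setup p S P L Y) :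
    P ≤ normalizer (((Cfsg.pResidual p ↥P).map P.subtype : Subgroup G) : Set G) := by
  rw [← normal_subgroupOf_iff_le_normalizer (map_subtype_le _)]
  have : ((Cfsg.pResidual p ↥P).map P.subtype).subgroupOf P = Cfsg.pResidual p ↥P := by
    rw [subgroupOf, comap_map_eq_self_of_injective P.subtype_injective]
  rw [this]
  infer_instance

theorem T_sup_S (h : Setup p S P L Y) : (Cfsg.pResidual p ↥P).map P.subtype ⊔ (S : Subgroup G) = P := by
  have h1 := pResidual_sup_sylow (S.subtype h.hSP)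
  have h2 := congrArg (Subgroup.map P.subtype) h1
  rw [Subgroup.map_sup, Sylow.coe_subtype, subgroupOf_map_subtype, inf_eq_left.mpr h.hSP,
    ← MonoidHom.range_eq_map, P.range_subtype] at h2
  exact h2

theorem nY (h : Setup p S P L Y) : Y.Normal := by
  rw [h.hY]; infer_instance

theorem T_le_Y (h : Setup p S P L Y) : (Cfsg.pResidual p ↥P).map P.subtype ≤ Y := by
  rw [h.hY]; exact le_normalClosure

/-- a subgroup `X` normalized by `S` with `P ≤ X S` contains `O^p(P)` -/
theorem T_le_of (h : Setup p S P L Y) {X : Subgroup G} (hX : (S : Subgroup G) ≤ normalizer (X : Set G))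
    (hP : P ≤ X ⊔ (S : Subgroup G)) : (Cfsg.pResidual p ↥P).map P.subtype ≤ X := by
  rw [map_le_iff_le_comap]
  unfold Cfsg.pResidual
  rw [closure_le]
  intro g hg
  have hg' : (orderOf g).Coprime p := hg
  show (g : G) ∈ X
  apply mem_of_coprime_of_mem_sup S.2 hX (hP g.2)
  rwa [Subgroup.orderOf_coe]

end Setup

end Cfsg.Agent.Lib.Helper48.Iso
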