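import Cfsg.Agent.Lib.Helper48.Iso.B

/-! Piece B, second part. -/

set_option autoImplicit false

namespace Cfsg.Agent.Lib.Helper48.Iso

open Cfsg Cfsg.Agent.Lib.Helper48 Subgroup

variable {G : Type*} [Group G]

namespace Setup

variable [Finite G] {p : ℕ} [Fact p.Prime] {S : Sylow p G} {P L Y : Subgroup G}

/-- normal subgroups of `P` whose Sylow part is not in `O_p(P)` contain `O^p(P)` -/
theorem T_le_of_normal (h : Setup p S P L Y) {N : Subgroup G} (hNP : N ≤ P)
    (hPN : P ≤ normalizer (N : Set G))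
    (hR : ¬ (S : Subgroup G) ⊓ N ≤ (Cfsg.pCore p ↥P).map P.subtype) :
    (Cfsg.pResidual p ↥P).map P.subtype ≤ N := by
  have hN' : (N.subgroupOf P).Normal := (normal_subgroupOf_iff_le_normalizer hNP).mpr hPN
  obtain ⟨M, ⟨hM, hSM⟩, -⟩ := (h.hPmin (S.subtype h.hSP)).2
  rcases pmin_normal h.hPmin (S.subtype h.hSP) hM hSM _ hN' with h1 | h1
  · refine (map_mono h1).trans ?_
    rw [subgroupOf_map_subtype]
    exact inf_le_left
  · exfalso
    apply hR
    have h2 := pmin_normal_inf_le h.hPmin (S.subtype h.hSP) hM hSM _ hN'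
      (h1.trans (normalCore_le M))
    intro x hx
    have hxP : x ∈ P := hNP hx.2
    refine ⟨⟨x, hxP⟩, h2 ?_, rfl⟩
    rw [Sylow.coe_subtype]
    exact ⟨mem_subgroupOf.mpr hx.1, mem_subgroupOf.mpr hx.2⟩

theorem S_le_nR (h : Setup p S P L Y) :
    (S : Subgroup G) ≤ normalizer (((Cfsg.pCore p ↥L).map L.subtype : Subgroup G) : Set G) :=
  h.S_le_L.trans h.L_le_nR

theorem S_le_nT (h : Setup p S P L Y) :
    (S : Subgroup G) ≤ normalizer (((Cfsg.pResidual p ↥P).map P.subtype : Subgroup G) : Set G) :=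
  h.hSP.trans h.P_le_nT

theorem T_le_comm (h : Setup p S P L Y) :
    (Cfsg.pResidual p ↥P).map P.subtype ≤
      ⁅(Cfsg.pResidual p ↥P).map P.subtype, (Cfsg.pCore p ↥L).map L.subtype⁆ := by
  set T := (Cfsg.pResidual p ↥P).map P.subtype with hT
  set R := (Cfsg.pCore p ↥L).map L.subtype with hR
  have hSX : (S : Subgroup G) ≤ normalizer ((⁅T, R⁆ : Subgroup G) : Set G) :=
    le_normalizer_commutator h.S_le_nT h.S_le_nR
  have hXT : ⁅T, R⁆ ≤ T :=
    Lib.Helper47.commutator_le_left_of_le_normalizer (h.R_le_S.trans h.S_le_nT)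
  have hTN : T ≤ normalizer ((⁅T, R⁆ ⊔ R : Subgroup G) : Set G) := by
    intro t ht
    apply Lib.Helper50.mem_normalizer_of_map_conj_le
    rw [Subgroup.map_sup]
    apply sup_le
    · apply le_sup_of_le_left
      rw [Lib.Helper50.mem_normalizer_iff_map_conj.mp (le_normalizer_commutator_left T R ht)]
    · rintro _ ⟨r, hr, rfl⟩
      have hc := commutator_mem_commutator ht hr
      rw [commutatorElement_def] at hc
      have e : (MulAut.conj t).toMonoidHom r = (t * r * t⁻¹ * r⁻¹) * r := by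
        simp
      rw [e]
      exact mul_mem (le_sup_left (a := ⁅T, R⁆) (b := R) hc)
        (le_sup_right (a := ⁅T, R⁆) (b := R) hr)
  have hSN : (S : Subgroup G) ≤ normalizer ((⁅T, R⁆ ⊔ R : Subgroup G) : Set G) :=
    Lib.Helper47.le_normalizer_sup hSX h.S_le_nR
  have hPN : P ≤ normalizer ((⁅T, R⁆ ⊔ R : Subgroup G) : Set G) := by
    rw [← h.T_sup_S]
    exact sup_le hTN hSN
  have h1 : T ≤ ⁅T, R⁆ ⊔ R := by
    apply h.T_le_of_normal (sup_le (hXT.trans h.T_le_P) (h.R_le_S.trans h.hSP)) hPN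
    intro hle
    exact h.hiso ((le_inf h.R_le_S le_sup_right).trans hle)
  apply h.T_le_of hSX
  rw [← h.T_sup_S]
  apply sup_le _ le_sup_right
  exact h1.trans (sup_le le_sup_left (le_sup_of_le_right h.R_le_S))

theorem Y_sup_L (h : Setup p S P L Y) : Y ⊔ L = ⊤ := by
  rw [eq_top_iff]
  rcases gen S P L h.hL ⊤ le_top with h1 | ⟨-, h1⟩
  · exact h1.trans le_sup_right
  · refine h1.trans (sup_le ?_ (le_sup_of_le_right inf_le_left))
    rw [← h.T_sup_S]
    exact sup_le (le_sup_of_le_left h.T_le_Y) (le_sup_of_le_right h.S_le_L)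

theorem comm_Y_R (h : Setup p S P L Y) : ⁅Y, (Cfsg.pCore p ↥L).map L.subtype⁆ = Y := by
  set R := (Cfsg.pCore p ↥L).map L.subtype with hR
  have := h.nY
  apply le_antisymm (commutator_le_left Y R)
  have hn : (⁅Y, R⁆ : Subgroup G).Normal := by
    rw [← normalizer_eq_top_iff, eq_top_iff, ← h.Y_sup_L]
    apply sup_le (le_normalizer_commutator_left Y R)
    apply le_normalizer_commutator _ h.L_le_nR
    rw [normalizer_eq_top_iff.mpr h.nY]
    exact le_top
  conv_lhs => rw [h.hY]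
  apply normalClosure_le_normal
  exact h.T_le_comm.trans (commutator_mono h.T_le_Y le_rfl)

theorem not_P_le_L (h : Setup p S P L Y) : ¬ P ≤ L := by
  intro hPL
  apply h.hiso
  have h1 : ((Cfsg.pCore p ↥L).map L.subtype).subgroupOf P ≤ Cfsg.pCore p ↥P := by
    apply le_pCore
    · exact (normal_subgroupOf_iff_le_normalizer (h.R_le_S.trans h.hSP)).mpr (hPL.trans h.L_le_nR)
    · exact h.isPGroup_R.comap_subtype
  have h2 := map_mono (f := P.subtype) h1
  rwa [subgroupOf_map_subtype, inf_eq_left.mpr (h.R_le_S.trans h.hSP)] at h2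

theorem not_isPGroup_T (h : Setup p S P L Y) :
    ¬ IsPGroup p ((Cfsg.pResidual p ↥P).map P.subtype : Subgroup G) := by
  intro hT
  have h1 : Cfsg.pResidual p ↥P = ⊥ := by
    unfold Cfsg.pResidual
    rw [closure_eq_bot_iff]
    intro g hg
    have hg' : (orderOf g).Coprime p := hg
    have hgT : (g : G) ∈ (Cfsg.pResidual p ↥P).map P.subtype :=
      ⟨g, subset_closure hg, rfl⟩
    obtain ⟨k, hk⟩ := hT ⟨(g : G), hgT⟩
    have hk' : g ^ p ^ k = 1 := by
      have := congrArg Subtype.val hk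
      apply Subtype.ext
      simpa using this
    have h2 : orderOf g ∣ p ^ k := orderOf_dvd_of_pow_eq_one hk'
    have h3 : orderOf g = 1 := Nat.Coprime.eq_one_of_dvd (Nat.Coprime.pow_right k hg') h2
    exact orderOf_eq_one_iff.mp h3
  have h2 := pResidual_sup_sylow (S.subtype h.hSP)
  rw [h1, bot_sup_eq] at h2
  apply (h.hPmin (S.subtype h.hSP)).1
  rw [h2]
  infer_instance

end Setup

end Cfsg.Agent.Lib.Helper48.Iso
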