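import Cfsg.Agent.Lib.Helper48.Iso.B2
import Cfsg.Agent.Lib.Lead.Cores

/-! Piece C: the image of the configuration in `G / O_p(G)` satisfies `Hyp`. -/

set_option autoImplicit false

namespace Cfsg.Agent.Lib.Helper48.Iso

open Cfsg Cfsg.Agent.Lib.Helper48 Subgroup

variable {G : Type*} [Group G]

namespace Setup

variable [Finite G] {p : ℕ} [Fact p.Prime] {S : Sylow p G} {P L Y : Subgroup G}

theorem hyp (h : Setup p S P L Y) [hn : (Cfsg.pCore p G).Normal] :
    Hyp p (Y.map (QuotientGroup.mk' (Cfsg.pCore p G)))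
      ((S : Subgroup G).map (QuotientGroup.mk' (Cfsg.pCore p G)))
      (((Cfsg.pCore p ↥L).map L.subtype).map (QuotientGroup.mk' (Cfsg.pCore p G)))
      (((Cfsg.pResidual p ↥P).map P.subtype).map (QuotientGroup.mk' (Cfsg.pCore p G))) := by
  set T := (Cfsg.pResidual p ↥P).map P.subtype with hT
  set R := (Cfsg.pCore p ↥L).map L.subtype with hR
  set π := QuotientGroup.mk' (Cfsg.pCore p G) with hπ
  have hsurj : Function.Surjective π := QuotientGroup.mk'_surjective _
  have hSR : (S : Subgroup G).map π ≤ normalizer ((R.map π : Subgroup _) : Set _) :=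
    (map_mono h.S_le_nR).trans (le_normalizer_map π)
  have hLR : L.map π ≤ normalizer ((R.map π : Subgroup _) : Set _) :=
    (map_mono h.L_le_nR).trans (le_normalizer_map π)
  have hcomapN : ∀ X' : Subgroup (G ⧸ Cfsg.pCore p G),
      (S : Subgroup G).map π ≤ normalizer (X' : Set _) →
      (S : Subgroup G) ≤ normalizer ((X'.comap π : Subgroup G) : Set G) := by
    intro X' hX'
    exact (map_le_iff_le_comap.mp hX').trans (le_normalizer_comap π)
  refine ⟨h.nY.map π hsurj, S.2.map π, map_mono h.R_le_S, hSR, map_mono h.T_le_Y,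
    (map_mono h.S_le_nT).trans (le_normalizer_map π), ?_, ?_, ?_, ?_, ?_, ?_, ?_⟩
  · -- T0ne
    intro hbot
    apply h.not_isPGroup_T
    have h1 : T ≤ Cfsg.pCore p G := by
      have := (map_eq_bot_iff T).mp hbot
      rwa [hπ, QuotientGroup.ker_mk'] at this
    exact isPGroup_pCore.to_le h1
  · -- h1
    intro N hN hNp
    have h1 := le_pCore hN hNp
    rw [Lib.Lead.pCore_quotient_pCore] at h1
    exact le_bot_iff.mp h1
  · -- h3
    rw [← map_commutator, h.comm_Y_R]
  · -- h4
    intro X' _ hSX'
    have hSX := hcomapN X' hSX'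
    rcases gen S P L h.hL (X'.comap π ⊔ (S : Subgroup G)) le_sup_right with h1 | ⟨h1, -⟩
    · right
      rw [← map_comap_eq_self_of_surjective hsurj X']
      exact (map_mono (le_sup_left.trans h1)).trans hLR
    · left
      have h2 := h.T_le_of hSX h1
      exact map_le_iff_le_comap.mpr h2
  · -- h6
    intro N hN hTN
    rw [map_le_iff_le_comap]
    conv_lhs => rw [h.hY]
    have : (N.comap π).Normal := hN.comap π
    apply normalClosure_le_normal
    exact map_le_iff_le_comap.mp hTN
  · -- h8
    intro X' hX'Y hSX' hTX' hYN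
    have hSX := hcomapN X' hSX'
    apply le_antisymm hX'Y
    have hnY := h.nY
    rcases gen S P L h.hL (Y ⊔ (S : Subgroup G)) le_sup_right with h1 | ⟨-, h1⟩
    · exfalso
      apply h.not_P_le_L
      rw [← h.T_sup_S]
      exact (sup_le_sup_right h.T_le_Y _).trans h1
    · have hP : P ≤ X'.comap π ⊔ (S : Subgroup G) := by
        rw [← h.T_sup_S]
        exact sup_le_sup_right (map_le_iff_le_comap.mp hTX') _
      have hLY : L ⊓ (Y ⊔ (S : Subgroup G)) ≤ X'.comap π ⊔ (S : Subgroup G) := by
        rintro g ⟨hgL, hgY⟩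
        have hSY : (S : Subgroup G) ≤ normalizer (Y : Set G) := by
          rw [normalizer_eq_top_iff.mpr hnY]; exact le_top
        obtain ⟨y, hy, s, hs, rfl⟩ := Lib.Helper47.mem_sup_of_le_normalizer hSY hgY
        have hyL : y ∈ L := by
          have := L.mul_mem hgL (L.inv_mem (h.S_le_L hs))
          simpa using this
        apply mul_mem (le_sup_left (a := X'.comap π) (b := (S : Subgroup G)) _)
          (le_sup_right (a := X'.comap π) (b := (S : Subgroup G)) hs)
        rw [mem_comap]
        exact hYN ⟨mem_map_of_mem π hy, hLR (mem_map_of_mem π hyL)⟩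
      have hY : Y ≤ X'.comap π ⊔ (S : Subgroup G) :=
        le_sup_left.trans (h1.trans (sup_le hP hLY))
      rintro _ ⟨y, hy, rfl⟩
      obtain ⟨x, hx, s, hs, hxs⟩ := Lib.Helper47.mem_sup_of_le_normalizer hSX (hY hy)
      have hx' : π x ∈ X' := hx
      have hs' : π s ∈ X' := by
        apply hYN
        refine ⟨?_, hSR (mem_map_of_mem π hs)⟩
        have e : π s = (π x)⁻¹ * π y := by
          rw [hxs, map_mul]; group
        rw [e]
        exact (Y.map π).mul_mem ((Y.map π).inv_mem (hX'Y hx')) (mem_map_of_mem π hy)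
      rw [hxs, map_mul]
      exact mul_mem hx' hs'
  · -- h9
    rw [eq_top_iff]
    have h1 := congrArg (Subgroup.map π) h.Y_sup_L
    rw [Subgroup.map_sup, map_top_of_surjective π hsurj] at h1
    rw [← h1]
    exact sup_le_sup_left hLR _

end Setup

end Cfsg.Agent.Lib.Helper48.Iso
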