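import Cfsg.Agent.Lib.Helper48.Iso.C
import Cfsg.Agent.Lib.Helper48.Iso.D2
import Cfsg.Agent.Lib.Helper48.Iso.D3b
import Cfsg.Agent.Lib.Helper48.Iso.D3d
import Cfsg.Agent.Lib.Helper48.Iso.D4
import Cfsg.Agent.Lib.Helper48.Iso.D5
import Cfsg.Agent.Lib.Helper48.Iso.E1
import Cfsg.Agent.Lib.Helper48.Iso.E2
import Cfsg.Agent.Lib.Helper48.Iso.E3

/-! Final lemmas for S3044 / S3045. -/

set_option autoImplicit false

namespace Cfsg.Agent.Lib.Helper48.Iso

open Cfsg Cfsg.Agent.Lib.Helper48 Subgroup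

variable {G : Type*} [Group G]

namespace Setup

variable [Finite G] {p : ℕ} [Fact p.Prime] {S : Sylow p G} {P L Y : Subgroup G}

/-- `Y` is generated by its `p'`-elements -/
theorem Y_le_closure (h : Setup p S P L Y) :
    Y ≤ closure {g : G | g ∈ Y ∧ (orderOf g).Coprime p} := by
  have hnY := h.nY
  have hn : (closure {g : G | g ∈ Y ∧ (orderOf g).Coprime p}).Normal := by
    rw [← normalizer_eq_top_iff, eq_top_iff]
    intro x _
    apply mem_normalizer_closure
    · rintro g ⟨hg, hc⟩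
      refine ⟨hnY.conj_mem g hg x, ?_⟩
      have : orderOf (x * g * x⁻¹) = orderOf g := by
        have := orderOf_injective (MulAut.conj x).toMonoidHom (MulAut.conj x).injective g
        simpa using this
      rwa [this]
    · rintro g ⟨hg, hc⟩
      have h1 := hnY.conj_mem g hg x⁻¹
      rw [inv_inv] at h1
      refine ⟨h1, ?_⟩
      have : orderOf (x⁻¹ * g * x) = orderOf g := by
        have := orderOf_injective (MulAut.conj x⁻¹).toMonoidHom (MulAut.conj x⁻¹).injective g
        simpa using this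
      rwa [this]
  conv_lhs => rw [h.hY]
  apply normalClosure_le_normal
  rw [SetLike.coe_subset_coe, map_le_iff_le_comap]
  unfold Cfsg.pResidual
  rw [closure_le]
  intro g hg
  have hg' : (orderOf g).Coprime p := hg
  apply Subgroup.subset_closure
  refine ⟨h.T_le_Y ⟨g, Subgroup.subset_closure hg, rfl⟩, ?_⟩
  show (orderOf (g : G)).Coprime p
  rwa [Subgroup.orderOf_coe]

theorem T_eq_Y (h : Setup p S P L Y) [hn : (Cfsg.pCore p G).Normal]
    (he : Y.map (QuotientGroup.mk' (Cfsg.pCore p G)) =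
      ((Cfsg.pResidual p ↥P).map P.subtype).map (QuotientGroup.mk' (Cfsg.pCore p G))) :
    (Cfsg.pResidual p ↥P).map P.subtype = Y := by
  apply le_antisymm h.T_le_Y
  have h1 : Y ≤ (Cfsg.pResidual p ↥P).map P.subtype ⊔ Cfsg.pCore p G := by
    have h2 : Y ≤ (Y.map (QuotientGroup.mk' (Cfsg.pCore p G))).comap
        (QuotientGroup.mk' (Cfsg.pCore p G)) := le_comap_map _ _
    rw [he, comap_map_eq, QuotientGroup.ker_mk'] at h2
    exact h2
  refine h.Y_le_closure.trans ?_
  rw [closure_le]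
  rintro g ⟨hg, hc⟩
  exact mem_of_coprime_of_mem_sup isPGroup_pCore ((pCore_le_sylow S).trans h.S_le_nT) (h1 hg) hc

/-- part (ii) of S3044 -/
theorem isolated_in (h : Setup p S P L Y) (L₀ : Subgroup G) (hSL₀ : (S : Subgroup G) ≤ L₀)
    (hL₀ : L₀ ≤ L) : ¬ (Cfsg.pCore p ↥L₀).map L₀.subtype ≤ (Cfsg.pCore p ↥P).map P.subtype := by
  intro hle
  apply h.hiso
  refine le_trans ?_ hle
  have h1 : ((Cfsg.pCore p ↥L).map L.subtype).subgroupOf L₀ ≤ Cfsg.pCore p ↥L₀ := by
    apply le_pCore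
    · exact (normal_subgroupOf_iff_le_normalizer (h.R_le_S.trans hSL₀)).mpr (hL₀.trans h.L_le_nR)
    · exact h.isPGroup_R.comap_subtype
  have h2 := map_mono (f := L₀.subtype) h1
  rwa [subgroupOf_map_subtype, inf_eq_left.mpr (h.R_le_S.trans hSL₀)] at h2

end Setup

end Cfsg.Agent.Lib.Helper48.Iso
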